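import Mathlib

/-!
Orders of abelian permutation groups: the product of the orbit lengths, and the largest product
of parts of a partition (with or without parts equal to two).
-/

set_option autoImplicit false

namespace Cfsg.Agent.Lib.AbelianPerm

open Equiv

/-- largest product of parts summing to `n` -/
def maxProd : ℕ → ℕ
  | n + 9 => 3 * maxProd (n + 6)
  | 8 => 18 | 7 => 12 | 6 => 9 | 5 => 6 | 4 => 4 | 3 => 3 | 2 => 2 | 1 => 1 | 0 => 1

/-- largest product of parts different from two summing to `n` -/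
def maxProdNoTwo : ℕ → ℕ
  | n + 9 => 3 * maxProdNoTwo (n + 6)
  | 8 => 16 | 7 => 12 | 6 => 9 | 5 => 5 | 4 => 4 | 3 => 3 | 2 => 1 | 1 => 1 | 0 => 1

theorem maxProd_add_three : ∀ m, 3 * maxProd m ≤ maxProd (m + 3)
  | 0 => by decide
  | 1 => by decide
  | 2 => by decide
  | 3 => by decide
  | 4 => by decide
  | 5 => by decide
  | m + 6 => by simp [maxProd]

theorem maxProdNoTwo_add_three : ∀ m, 3 * maxProdNoTwo m ≤ maxProdNoTwo (m + 3)
  | 0 => by decide
  | 1 => by decide
  | 2 => by decide
  | 3 => by decide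
  | 4 => by decide
  | 5 => by decide
  | m + 6 => by simp [maxProdNoTwo]

theorem mul_maxProd_small (a : ℕ) (ha : a < 8) : ∀ m, a * maxProd m ≤ maxProd (a + m)
  | m + 9 => by
    have h := mul_maxProd_small a ha (m + 6)
    have h' := maxProd_add_three (a + (m + 6))
    rw [show a + (m + 9) = a + (m + 6) + 3 by omega]
    simp only [maxProd]
    calc a * (3 * maxProd (m + 6)) = 3 * (a * maxProd (m + 6)) := by ring
      _ ≤ 3 * maxProd (a + (m + 6)) := by omega
      _ ≤ _ := h'
  | 8 => by interval_cases a <;> simp [maxProd]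
  | 7 => by interval_cases a <;> simp [maxProd]
  | 6 => by interval_cases a <;> simp [maxProd]
  | 5 => by interval_cases a <;> simp [maxProd]
  | 4 => by interval_cases a <;> simp [maxProd]
  | 3 => by interval_cases a <;> simp [maxProd]
  | 2 => by interval_cases a <;> simp [maxProd]
  | 1 => by interval_cases a <;> simp [maxProd]
  | 0 => by interval_cases a <;> simp [maxProd]

theorem mul_maxProdNoTwo_small (a : ℕ) (ha : a < 8) (ha2 : a ≠ 2) :
    ∀ m, a * maxProdNoTwo m ≤ maxProdNoTwo (a + m)
  | m + 9 => by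
    have h := mul_maxProdNoTwo_small a ha ha2 (m + 6)
    have h' := maxProdNoTwo_add_three (a + (m + 6))
    rw [show a + (m + 9) = a + (m + 6) + 3 by omega]
    simp only [maxProdNoTwo]
    calc a * (3 * maxProdNoTwo (m + 6)) = 3 * (a * maxProdNoTwo (m + 6)) := by ring
      _ ≤ 3 * maxProdNoTwo (a + (m + 6)) := by omega
      _ ≤ _ := h'
  | 8 => by interval_cases a <;> simp_all [maxProdNoTwo]
  | 7 => by interval_cases a <;> simp_all [maxProdNoTwo]
  | 6 => by interval_cases a <;> simp_all [maxProdNoTwo]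
  | 5 => by interval_cases a <;> simp_all [maxProdNoTwo]
  | 4 => by interval_cases a <;> simp_all [maxProdNoTwo]
  | 3 => by interval_cases a <;> simp_all [maxProdNoTwo]
  | 2 => by interval_cases a <;> simp_all [maxProdNoTwo]
  | 1 => by interval_cases a <;> simp_all [maxProdNoTwo]
  | 0 => by interval_cases a <;> simp_all [maxProdNoTwo]

theorem mul_maxProd (a : ℕ) : ∀ m, a * maxProd m ≤ maxProd (a + m) := by
  induction a using Nat.strong_induction_on with
  | _ a ih =>
    intro m
    by_cases ha : a < 8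
    · exact mul_maxProd_small a ha m
    · calc a * maxProd m ≤ 3 * (a - 3) * maxProd m := Nat.mul_le_mul_right _ (by omega)
        _ ≤ 3 * maxProd (a - 3 + m) := by
            rw [mul_assoc]; exact Nat.mul_le_mul_left _ (ih (a - 3) (by omega) m)
        _ ≤ maxProd (a - 3 + m + 3) := maxProd_add_three _
        _ = maxProd (a + m) := by congr 1; omega

theorem mul_maxProdNoTwo (a : ℕ) : a ≠ 2 → ∀ m, a * maxProdNoTwo m ≤ maxProdNoTwo (a + m) := by
  induction a using Nat.strong_induction_on with
  | _ a ih =>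
    intro ha2 m
    by_cases ha : a < 8
    · exact mul_maxProdNoTwo_small a ha ha2 m
    · calc a * maxProdNoTwo m ≤ 3 * (a - 3) * maxProdNoTwo m := Nat.mul_le_mul_right _ (by omega)
        _ ≤ 3 * maxProdNoTwo (a - 3 + m) := by
            rw [mul_assoc]; exact Nat.mul_le_mul_left _ (ih (a - 3) (by omega) (by omega) m)
        _ ≤ maxProdNoTwo (a - 3 + m + 3) := maxProdNoTwo_add_three _
        _ = maxProdNoTwo (a + m) := by congr 1; omega

theorem prod_le_maxProd {ι : Type*} (s : Finset ι) (f : ι → ℕ) :
    ∏ i ∈ s, f i ≤ maxProd (∑ i ∈ s, f i) := by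
  classical
  induction s using Finset.induction_on with
  | empty => simp [maxProd]
  | insert i s hi ih =>
    rw [Finset.prod_insert hi, Finset.sum_insert hi]
    exact (Nat.mul_le_mul_left _ ih).trans (mul_maxProd _ _)

theorem prod_le_maxProdNoTwo {ι : Type*} (s : Finset ι) (f : ι → ℕ) (hf : ∀ i ∈ s, f i ≠ 2) :
    ∏ i ∈ s, f i ≤ maxProdNoTwo (∑ i ∈ s, f i) := by
  classical
  induction s using Finset.induction_on with
  | empty => simp [maxProdNoTwo]
  | insert i s hi ih =>
    rw [Finset.prod_insert hi, Finset.sum_insert hi]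
    exact (Nat.mul_le_mul_left _ (ih fun j hj => hf j (Finset.mem_insert_of_mem hj))).trans
      (mul_maxProdNoTwo _ (hf i (Finset.mem_insert_self _ _)) _)

theorem maxProd_three_mul : ∀ k, maxProd (3 * k) = 3 ^ k
  | 0 => rfl
  | 1 => rfl
  | 2 => rfl
  | k + 3 => by
    rw [show 3 * (k + 3) = 3 * k + 9 by ring, maxProd, show 3 * k + 6 = 3 * (k + 2) by ring,
      maxProd_three_mul (k + 2)]
    ring

theorem maxProd_three_mul_add_one : ∀ k, maxProd (3 * (k + 1) + 1) = 4 * 3 ^ k
  | 0 => rfl
  | 1 => rfl
  | k + 2 => by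
    rw [show 3 * (k + 2 + 1) + 1 = 3 * k + 1 + 9 by ring, maxProd,
      show 3 * k + 1 + 6 = 3 * (k + 1 + 1) + 1 by ring, maxProd_three_mul_add_one (k + 1)]
    ring

theorem maxProd_three_mul_add_two : ∀ k, maxProd (3 * k + 2) = 2 * 3 ^ k
  | 0 => rfl
  | 1 => rfl
  | 2 => rfl
  | k + 3 => by
    rw [show 3 * (k + 3) + 2 = 3 * k + 2 + 9 by ring, maxProd,
      show 3 * k + 2 + 6 = 3 * (k + 2) + 2 by ring, maxProd_three_mul_add_two (k + 2)]
    ring

theorem maxProdNoTwo_three_mul_add_two : ∀ k, maxProdNoTwo (3 * (k + 2) + 2) = 16 * 3 ^ k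
  | 0 => rfl
  | k + 1 => by
    rw [show 3 * (k + 1 + 2) + 2 = 3 * k + 2 + 9 by ring, maxProdNoTwo,
      show 3 * k + 2 + 6 = 3 * (k + 2) + 2 by ring, maxProdNoTwo_three_mul_add_two k]
    ring

theorem maxProdNoTwo_le : ∀ m, maxProdNoTwo m ≤ maxProd m
  | m + 9 => by simp only [maxProdNoTwo, maxProd]; exact Nat.mul_le_mul_left _ (maxProdNoTwo_le _)
  | 8 => by decide
  | 7 => by decide
  | 6 => by decide
  | 5 => by decide
  | 4 => by decide
  | 3 => by decide
  | 2 => by decide
  | 1 => by decide
  | 0 => by decide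

section Orbits

variable {α : Type*} [Finite α] (A : Subgroup (Perm α)) [IsMulCommutative A]

/-- An element of an abelian permutation group is determined on an orbit by one of its values. -/
theorem eq_on_orbit (a b : A) (x y : α) (h : (a : Perm α) x = (b : Perm α) x)
    (hy : y ∈ MulAction.orbit A x) : (a : Perm α) y = (b : Perm α) y := by
  obtain ⟨c, rfl⟩ := hy
  have hac : (a : Perm α) * c = c * a := congrArg Subtype.val (mul_comm' a c)
  have hbc : (b : Perm α) * c = c * b := congrArg Subtype.val (mul_comm' b c)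
  change ((a : Perm α) * c) x = ((b : Perm α) * c) x
  rw [hac, hbc, Perm.mul_apply, Perm.mul_apply, h]

/-- The order is at most the product of the orbit lengths. -/
theorem card_le_prod_orbit [Fintype (MulAction.orbitRel.Quotient A α)] :
    Nat.card A ≤ ∏ ω : MulAction.orbitRel.Quotient A α, Nat.card ω.orbit := by
  rw [← Nat.card_pi]
  refine Nat.card_le_card_of_injective
    (fun a ω => (⟨(a : Perm α) ω.out, by
      rw [MulAction.orbitRel.Quotient.orbit_eq_orbit_out _ Quotient.out_eq']
      exact MulAction.mem_orbit _ a⟩ : ω.orbit)) fun a b hab => ?_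
  apply Subtype.ext
  ext y
  let ω : MulAction.orbitRel.Quotient A α := Quotient.mk'' y
  have h := congrArg Subtype.val (congrFun hab ω)
  refine eq_on_orbit A a b ω.out y h ?_
  have : y ∈ ω.orbit := MulAction.orbitRel.Quotient.mem_orbit.2 rfl
  rwa [MulAction.orbitRel.Quotient.orbit_eq_orbit_out _ Quotient.out_eq'] at this

theorem sum_card_orbit [Fintype (MulAction.orbitRel.Quotient A α)] :
    ∑ ω : MulAction.orbitRel.Quotient A α, Nat.card ω.orbit = Nat.card α := by
  rw [← Nat.card_sigma, ← Nat.card_congr (MulAction.selfEquivSigmaOrbits' A α)]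

/-- The order of an abelian subgroup of a symmetric group. -/
theorem card_le_maxProd : Nat.card A ≤ maxProd (Nat.card α) := by
  classical
  haveI := Fintype.ofFinite (MulAction.orbitRel.Quotient A α)
  refine (card_le_prod_orbit A).trans ((prod_le_maxProd _ _).trans ?_)
  rw [sum_card_orbit]

/-- The order of an abelian group of even permutations. -/
theorem card_le_of_even [Fintype α] [DecidableEq α] (hA : A ≤ alternatingGroup α) :
    Nat.card A ≤ max (maxProdNoTwo (Nat.card α)) (maxProd (Nat.card α - 2)) := by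
  classical
  haveI := Fintype.ofFinite (MulAction.orbitRel.Quotient A α)
  by_cases h2 : ∀ ω : MulAction.orbitRel.Quotient A α, Nat.card ω.orbit ≠ 2
  · refine le_max_of_le_left ((card_le_prod_orbit A).trans
      ((prod_le_maxProdNoTwo _ _ fun ω _ => h2 ω).trans ?_))
    rw [sum_card_orbit]
  push Not at h2
  obtain ⟨ω₀, h₀⟩ := h2
  refine le_max_of_le_right ?_
  have hinj : Nat.card A ≤ ∏ ω ∈ Finset.univ.erase ω₀, Nat.card (MulAction.orbitRel.Quotient.orbit ω) := by
    rw [← Finset.prod_coe_sort, ← Nat.card_pi]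
    refine Nat.card_le_card_of_injective
      (fun a ω => (⟨(a : Perm α) ω.1.out, by
        rw [MulAction.orbitRel.Quotient.orbit_eq_orbit_out _ Quotient.out_eq']
        exact MulAction.mem_orbit _ a⟩ : ω.1.orbit)) fun a b hab => ?_
    have hout : ∀ y, (Quotient.mk'' y : MulAction.orbitRel.Quotient A α) ≠ ω₀ →
        (a : Perm α) y = (b : Perm α) y := by
      intro y hy
      let ω : MulAction.orbitRel.Quotient A α := Quotient.mk'' y
      have h := congrArg Subtype.val
        (congrFun hab ⟨ω, Finset.mem_erase.2 ⟨hy, Finset.mem_univ _⟩⟩)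
      refine eq_on_orbit A a b ω.out y h ?_
      have : y ∈ ω.orbit := MulAction.orbitRel.Quotient.mem_orbit.2 rfl
      rwa [MulAction.orbitRel.Quotient.orbit_eq_orbit_out _ Quotient.out_eq'] at this
    set d : Perm α := (a⁻¹ * b : A).1 with hd
    have hsupp : (d.support : Set α) ⊆ ω₀.orbit := by
      intro y hy
      rw [Finset.mem_coe, Perm.mem_support] at hy
      by_contra hne
      apply hy
      have h := hout y fun h => hne (MulAction.orbitRel.Quotient.mem_orbit.2 h)
      rw [hd, Subgroup.coe_mul, Subgroup.coe_inv, Perm.mul_apply, ← h, Perm.coe_inv, Equiv.symm_apply_apply]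
    by_contra hne
    have hd1 : d ≠ 1 := fun h => hne (inv_mul_eq_one.1 (Subtype.ext h))
    have hle : d.support.card ≤ 2 := by
      have := Set.ncard_le_ncard hsupp
      rw [Set.ncard_coe_finset, ← Nat.card_coe_set_eq, h₀] at this
      exact this
    have h2c : d.support.card = 2 := le_antisymm hle (Perm.two_le_card_support_of_ne_one hd1)
    have hs := Perm.card_support_eq_two.1 h2c
    have he := Perm.mem_alternatingGroup.1 (hA (a⁻¹ * b : A).2)
    rw [← hd, hs.sign_eq] at he
    exact absurd he (by decide)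
  refine hinj.trans ((prod_le_maxProd _ _).trans ?_)
  apply le_of_eq
  congr 1
  have h := sum_card_orbit A (α := α)
  rw [← Finset.add_sum_erase _ _ (Finset.mem_univ ω₀), h₀] at h
  omega

end Orbits

end Cfsg.Agent.Lib.AbelianPerm
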