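import Mathlib

/-!
Large abelian permutation groups, built as direct sums of small regular ones.
-/

set_option autoImplicit false

namespace Cfsg.Agent.Lib.AbelianPerm

open Equiv

/-- There is an abelian subgroup of the symmetric group of degree `n` of order `c`. -/
def HasAbelian (n c : ℕ) : Prop :=
  ∃ A : Subgroup (Perm (Fin n)), IsMulCommutative A ∧ Nat.card A = c

/-- The same with all permutations even. -/
def HasAbelianEven (n c : ℕ) : Prop :=
  ∃ A : Subgroup (Perm (Fin n)), IsMulCommutative A ∧ A ≤ alternatingGroup (Fin n) ∧ Nat.card A = c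

theorem HasAbelianEven.hasAbelian {n c : ℕ} (h : HasAbelianEven n c) : HasAbelian n c := by
  obtain ⟨A, h1, -, h3⟩ := h
  exact ⟨A, h1, h3⟩

/-- juxtaposition -/
def sumHom (a b : ℕ) : Perm (Fin a) × Perm (Fin b) →* Perm (Fin (a + b)) :=
  (Equiv.permCongrHom (finSumFinEquiv (m := a) (n := b))).toMonoidHom.comp
    (Perm.sumCongrHom (Fin a) (Fin b))

theorem sumHom_injective (a b : ℕ) : Function.Injective (sumHom a b) :=
  (Equiv.permCongrHom finSumFinEquiv).injective.comp Perm.sumCongrHom_injective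

theorem sign_sumHom (a b : ℕ) (x : Perm (Fin a) × Perm (Fin b)) :
    Perm.sign (sumHom a b x) = Perm.sign x.1 * Perm.sign x.2 := by
  simp [sumHom, Perm.sumCongrHom, Perm.sign_permCongr]

theorem isMulCommutative_map_prod {a b : ℕ} (A : Subgroup (Perm (Fin a)))
    (B : Subgroup (Perm (Fin b))) (hA : IsMulCommutative A) (hB : IsMulCommutative B) :
    IsMulCommutative ((A.prod B).map (sumHom a b)) := by
  refine ⟨⟨?_⟩⟩
  rintro ⟨_, x, hx, rfl⟩ ⟨_, y, hy, rfl⟩
  apply Subtype.ext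
  change sumHom a b x * sumHom a b y = sumHom a b y * sumHom a b x
  rw [← map_mul, ← map_mul]
  congr 1
  exact Prod.ext (congrArg Subtype.val (mul_comm' (⟨x.1, hx.1⟩ : A) ⟨y.1, hy.1⟩))
    (congrArg Subtype.val (mul_comm' (⟨x.2, hx.2⟩ : B) ⟨y.2, hy.2⟩))

theorem card_map_prod {a b : ℕ} (A : Subgroup (Perm (Fin a))) (B : Subgroup (Perm (Fin b))) :
    Nat.card ((A.prod B).map (sumHom a b)) = Nat.card A * Nat.card B := by
  rw [Subgroup.card_map_of_injective (sumHom_injective a b),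
    Nat.card_congr (Subgroup.prodEquiv A B).toEquiv, Nat.card_prod]

theorem HasAbelian.add {a b c d : ℕ} (h1 : HasAbelian a c) (h2 : HasAbelian b d) :
    HasAbelian (a + b) (c * d) := by
  obtain ⟨A, hA, hc⟩ := h1
  obtain ⟨B, hB, hd⟩ := h2
  exact ⟨_, isMulCommutative_map_prod A B hA hB, by rw [card_map_prod, hc, hd]⟩

theorem HasAbelianEven.add {a b c d : ℕ} (h1 : HasAbelianEven a c) (h2 : HasAbelianEven b d) :
    HasAbelianEven (a + b) (c * d) := by
  obtain ⟨A, hA, hA', hc⟩ := h1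
  obtain ⟨B, hB, hB', hd⟩ := h2
  refine ⟨_, isMulCommutative_map_prod A B hA hB, ?_, by rw [card_map_prod, hc, hd]⟩
  rintro _ ⟨x, hx, rfl⟩
  rw [Perm.mem_alternatingGroup, sign_sumHom, Perm.mem_alternatingGroup.1 (hA' hx.1),
    Perm.mem_alternatingGroup.1 (hB' hx.2), one_mul]

theorem hasAbelianEven_zero : HasAbelianEven 0 1 :=
  ⟨⊥, inferInstance, bot_le, Subgroup.card_bot⟩

theorem hasAbelianEven_three : HasAbelianEven 3 3 := by
  refine ⟨alternatingGroup (Fin 3), ?_, le_rfl, ?_⟩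
  · refine ⟨⟨?_⟩⟩
    decide
  · rw [nat_card_alternatingGroup]
    simp [Nat.factorial]

theorem hasAbelian_two : HasAbelian 2 2 := by
  refine ⟨⊤, ⟨⟨?_⟩⟩, ?_⟩
  · rintro ⟨x, -⟩ ⟨y, -⟩
    exact Subtype.ext ((by decide : ∀ x y : Perm (Fin 2), x * y = y * x) x y)
  · rw [Subgroup.card_top, Nat.card_perm, Nat.card_fin]
    rfl

/-- The Klein four group as a subgroup of the symmetric group of degree four. -/
def kleinFour : Subgroup (Perm (Fin 4)) where
  carrier := {s | s = 1 ∨ s = Equiv.swap 0 1 * Equiv.swap 2 3 ∨ s = Equiv.swap 0 2 * Equiv.swap 1 3 ∨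
    s = Equiv.swap 0 3 * Equiv.swap 1 2}
  one_mem' := Or.inl rfl
  mul_mem' := by
    rintro a b (rfl | rfl | rfl | rfl) (rfl | rfl | rfl | rfl) <;> simp only [Set.mem_setOf_eq] <;> decide
  inv_mem' := by
    rintro a (rfl | rfl | rfl | rfl) <;> simp only [Set.mem_setOf_eq] <;> decide

theorem hasAbelianEven_four : HasAbelianEven 4 4 := by
  refine ⟨kleinFour, ⟨⟨?_⟩⟩, ?_, ?_⟩
  · rintro ⟨a, rfl | rfl | rfl | rfl⟩ ⟨b, rfl | rfl | rfl | rfl⟩ <;> apply Subtype.ext <;>
      simp only [Subgroup.coe_mul] <;> decide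
  · rintro a (rfl | rfl | rfl | rfl) <;> rw [Perm.mem_alternatingGroup] <;> decide
  · change Nat.card ↥({s | s = 1 ∨ s = Equiv.swap 0 1 * Equiv.swap 2 3 ∨ s = Equiv.swap 0 2 * Equiv.swap 1 3 ∨
      s = Equiv.swap 0 3 * Equiv.swap 1 2} : Set (Perm (Fin 4))) = 4
    rw [Nat.card_coe_set_eq, Set.ncard_eq_toFinset_card']
    decide

theorem hasAbelianEven_three_mul : ∀ k, HasAbelianEven (3 * k) (3 ^ k)
  | 0 => hasAbelianEven_zero
  | k + 1 => by
    rw [pow_succ]
    exact (hasAbelianEven_three_mul k).add hasAbelianEven_three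

end Cfsg.Agent.Lib.AbelianPerm
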